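import Cfsg.Agent.J4Rep94.C22.Data

/-!
# Certificate data
-/

set_option autoImplicit false
set_option maxRecDepth 100000

namespace Cfsg.Agent.J4Rep94.C22

open Cfsg.Agent.CosetEnum

def fv0 : ℕ := 0x10000300005001b20014a0014d0014f0015100153001b6001ba00045000470000d000760007400072000700006e0006c0006a00068000660006400062000600005e0005c0005a00058000560005400052000500004e0004c0004a00048000180002400007001b700155001b800003000420000100021000060015400152001500014e0014c0014b001b4000090000b00009000400003e0003c0003a00038000360003400032000300002e0002c0002a00028000260002400022000200001e0001c0001a00018000160001400012000100000e0000c0001b000060000500152001500014e0014c0014b001b400006001ac001aa001a8001a6001a4001a2001a00019e0019c0019a00198001960019400192001900018e0018c0018a00188001860018400182001800017e0017c0017a00178001760017400172001700016e0016c0016a00168001660016400162001600015e0015c0015a0015800156000800007e0007c0007a00008000310000400004001b300001000060000100003000030000400002000020014a00148001460014400142001400013e0013c0013a00138001360013400132001300012e0012c0012a00128001260012400122001200011e0011c0011a00118001160011400112001100010e0010c0010a0010800106001040010200100000fe000fc000fa000f8000f6000f4000eb000ed000ef000f1000f3001b1001af0007800001000350000100002001af0007800002000f2000f0000ee000ec000ea000e8000e6000e4000e2000e0000de000dc00028000260002400022000200001e0001c0001a00018000160001400012000100000e0000c0000a00008000060000400002000000002100000000010007800001000da000d8000d6000d4000d2000d0000ce000cc000ca000c8000c6000c4000c2000c0000be000bc000ba000b8000b6000b4000b2000b0000ae000ac000aa000a8000a6000a4000a2000a00009e0009c0009a00098000960009400092000900008e0008c0008a00088000860008400082000100000e0000c0000a0000800006000040000200000000360000000000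
theorem fok0 : sys.checkFacts 215 8 fv0 = true := by decide +kernel


end Cfsg.Agent.J4Rep94.C22
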