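import Cfsg.Agent.J4Rep94.P7
import Cfsg.Agent.J4Rep94.Orbit

/-!
# Certificate data
-/

set_option autoImplicit false
set_option maxRecDepth 100000

namespace Cfsg.Agent.J4Rep94.C22

open Cfsg.Agent.CosetEnum

def fxL0 : ℕ := 0xc00000000f06001ae000443000ab000210800550006b8400298000102000060014c20006e0007a00001e80037000035c003584001ac001aa0000d5000d408006a00069800034c003482001a4001a20000d1000d010006800067800033c0033820019c0019a0000cd000cc10006600065800032c00328200194001920000c9000c810006400063800031c0031820018c0018a0000c5000c408006200061800030c00308400184001820000c1000c00800600005f80002fc002f840017c0017a0000bd000bc08005e0005d80002ec002e8400174001720000b9000b808005c0005b80002dc002d820016c0016a0000b5000b410005a0005980002cc002c8200164001620000b1000b01000580005780002bc002b820015c0015a0000ad000ac1000560002084002ac002a8000154001521000a9000a800005400053880029c0029400014c0014a2000a5000a400005200051840028c00288000144001422000a1000a00000500004f840027c0027800013c0013a10009d0009c00004e0004d880026c00268000134001321000990009800004c0004b880025c0025800012c0012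a1000950009400004a00049880024c00248000124001221000910009000004800047840023c0023800011c0011a20008d0008c00004600045840022c00228000114001122000890008800004400043840021c0021800010c0010a2000850008400004200041840020c0020800010400102100081000800000400003f88001fc001f80000fc000fa10007d0007c00003e0003d88001ec001d40000f4000f21000790007800003c0003b88001dc001d80000ec000ea2000750007400003a0003984001cc001c80000e4000e2200071000700000380003788001bc000542000dc000da00006d0006c1000360003580001ac001a82000d4000d20000690006810003400033800019c001982000cc000ca0000650006408003200031800018c001884000c4000c2000061000600800300002f800017c001784000bc000ba00005d0005c08002e0002d800016c001684000b4000b20000590005808002c0002b800015c001582000ac000aa0000550005410002a00029800014c001482000a4000a20000510005010002800027800013c0013820009c0009a00004d0004c10002600025800012c00128200094000920000490004808002400023800011c0011840008c0008a0000450004408002200021800010c0010840008400012000041000400800200001f80000fc000f820007c0000a10003d0000010001e0001d80000ec000e8400074000720000390003808001c0001b80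000dc000d840006c0006a0000350003408001a0001980000cc000c820006400062000031000301000180001780000bc000b820005c0005a00002d0002c0800160001580000ac000a8400054000520000290002808001400013800009c0009820004c0004a0000250002410001200011800008c0008820004400042000021000200800100000f800007c0007840003c0003a00001d0001c10000e0000d800006c00068200034000320000190001810000c0000b800005c0005820002c0002a0000150001408000a00009800004c00048400024000220000110001008000800007800003c0003820001c0001a00000d0000c10000600005800002c00028200014000120000090000808000400003800001c0001840000c0000a0000050000408000200001800000c000082000040000200000100000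
def fx : PTree := (.leaf fxL0)
def rules0 : DTree Rule := (.node 4 (.node 2 (.node 1 (.leaf ⟨0, [0,1,0,1,0,2,0,1,0,2,0,1,0,2,0,1,0,1,0,2,0,1,0,2,0,1,0,2,0,1,0,1,0,2,0,1,0,2,0,1,0,2,0,1,0,1,0,2,0,1,0,2,0,1], [1], false, 7, 0⟩) (.leaf ⟨2, [0,1,0,1,0,2,0,1,0,1,0,2,0,1,0,1,0,2,0,1,0,2,0,2,0,1,0,2,0,2,0,1,0], [1,0], false, 8, 0⟩)) (.node 1 (.leaf ⟨1, [0,1,0,1,0,2,0,1,0,2,0,1,0,2,0,1,0,1,0,2,0,1,0,2,0,1,0,2,0,1,0,1,0,2,0,1,0,2,0,1,0,2,0,1,0,1,0,2,0,1,0,2,0], [1,0], false, 7, 0⟩) (.leaf ⟨1, [1], [2], false, 3, 0⟩))) (.node 2 (.node 1 (.leaf ⟨1, [0,1,0,1,0,2,0,1,0,2,0,1,0,2,0,1,0,1,0,2,0,1,0,2,0,1,0,2,0,1,0,1,0,2,0,1,0,2,0,1,0,2,0,1,0,1,0,2,0], [1,0,2,0,1,0], false, 7, 0⟩) (.leaf ⟨3, [0,1,0,1,0,2,0,1,0,1,0,2,0,1,0,1,0,2,0,1,0,2,0,2,0,1,0], [1,0,1,0,2,0,1,0,1], false, 8, 0⟩)) (.node 1 (.leaf ⟨3, [1], [2,2], false, 3, 0⟩) (.leaf ⟨3, [0,1,0,1,0,2,0,1,0,1,0,2,0,1,0,1,0,2,0,1,0,2,0,2], [1,0,1,0,2,0,1,0,1,0,2,0], false, 8, 0⟩))))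
def rules : DTree Rule := rules0
def sys : Sys := ⟨3, 0x18440, fx, rules⟩
def rels : List (List ℕ) := baseRels ++ []
def subs : List (List ℕ) := []

end Cfsg.Agent.J4Rep94.C22
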